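import Groth.Agent.Biell.K856.Main3

/-!
# The genus of the Albanese curve is the dimension of the Picard variety

`X` smooth proper over an algebraically closed field, `θ : X ⟶ E` onto a smooth proper curve with `θ_* O_X = O_E`
such that every class algebraically equivalent to zero comes from `E`: then `genus E = dim Pic⁰_X`.
(Growth of the `ℓ^ν`-torsion of the Picard groups; any characteristic.)
-/

set_option autoImplicit false
set_option linter.unusedSectionVars false
universe u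
open CategoryTheory CategoryTheory.Limits AlgebraicGeometry Opposite TopologicalSpace

namespace Groth.Agent.Surf.K947.GenusPic

open Groth.Agent
open Groth.Agent.Grpsch.PicGrp
open Groth.Agent.Pic13.H138.AlgEquiv K856.PicA K856.Main3

theorem finrank_eq {k : Type u} [Field k] [IsAlgClosed k] {X : Scheme.{u}} [X.Over (Spec (CommRingCat.of k))]
    [IsProper (X ↘ Spec (CommRingCat.of k))] [Smooth (X ↘ Spec (CommRingCat.of k))]
    (D : PZ k X) {g : ℕ} (hg : topologicalKrullDim D.A.left = g) {E : Scheme.{u}}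
    [E.Over (Spec (CommRingCat.of k))] (f : X ⟶ E)
    (hE : Curve.IsSmoothProperCurve k E (E ↘ Spec (CommRingCat.of k))) (hf : ∀ U, IsIso (f.app U))
    (halg : ∀ c ∈ alg0 k X, ∃ d : Pic E, pull f d = c) :
    Module.finrank k (Coh.HH E (Coh.structureModule E) 1) = g := by
  obtain ⟨hp, hs, hint, hdim⟩ := hE
  have hinj := K856.PullInj.pull_injective f hf
  obtain ⟨ℓ, hℓ, hℓk⟩ := exists_prime_ne k
  have hcard : ∀ n : ℕ, (n : k) ≠ 0 → Nat.card {c : Pic E // c ^ n = 1} =
      n ^ (2 * Module.finrank k (Coh.HH E (Coh.structureModule E) 1)) := fun n hn =>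
    Etcore.PicTors.card_torsion E (E ↘ Spec (CommRingCat.of k)) hdim rfl n hn
  have hne : ∀ ν : ℕ, ((ℓ ^ ν : ℕ) : k) ≠ 0 := fun ν => by
    push_cast
    exact pow_ne_zero _ hℓk
  have hfinE : ∀ ν : ℕ, Finite {c : Pic E // c ^ (ℓ ^ ν) = 1} := by
    intro ν
    apply Nat.finite_of_card_ne_zero
    rw [hcard _ (hne ν)]
    have := hℓ.pos
    positivity
  obtain ⟨C, hC⟩ := D.card_pic_le
  have hup : ∀ ν : ℕ, Nat.card {c : Pic E // c ^ (ℓ ^ ν) = 1} ≤ C * (ℓ ^ ν) ^ (2 * g) := by
    intro ν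
    obtain ⟨h1, h2⟩ := hC g hg _ (hne ν)
    refine le_trans (Nat.card_le_card_of_injective
      (fun c => (⟨pull f c.1, by rw [← map_pow, c.2, map_one]⟩ : {c : Pic X // c ^ (ℓ ^ ν) = 1})) ?_) h2
    intro a b hab
    exact Subtype.ext (hinj (congrArg (fun z : {c : Pic X // c ^ (ℓ ^ ν) = 1} => z.1) hab))
  have hlow : ∀ ν : ℕ, (ℓ ^ ν) ^ (2 * g) ≤ Nat.card {c : Pic E // c ^ (ℓ ^ ν) = 1} := by
    intro ν
    rw [← D.card_alg0 g hg _ (hne ν)]
    have := hfinE ν
    choose F hF using halg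
    refine Nat.card_le_card_of_injective
      (fun a => (⟨F a.1.1 a.1.2, ?_⟩ : {c : Pic E // c ^ (ℓ ^ ν) = 1})) ?_
    · apply hinj
      rw [map_pow, hF, map_one, ← Subgroup.coe_pow, a.2, Subgroup.coe_one]
    · intro a b hab
      have h1 : F a.1.1 a.1.2 = F b.1.1 b.1.2 :=
        congrArg (fun z : {c : Pic E // c ^ (ℓ ^ ν) = 1} => z.1) hab
      have h2 := congrArg (pull f) h1
      rw [hF, hF] at h2
      exact Subtype.ext (Subtype.ext h2)
  generalize Module.finrank k (Coh.HH E (Coh.structureModule E) 1) = g' at hcard ⊢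
  have hl := hℓ.two_le
  have h1 : g' ≤ g := by
    by_contra hcon
    push Not at hcon
    have h2 := hup C
    rw [hcard _ (hne C)] at h2
    have h3 : (ℓ ^ C) ^ (2 * g + 2) ≤ C * (ℓ ^ C) ^ (2 * g) :=
      (Nat.pow_le_pow_right (by positivity) (by omega)).trans h2
    have h4 : C < ℓ ^ C := Nat.lt_pow_self (by omega)
    have h5 : (ℓ ^ C) ^ (2 * g + 2) = (ℓ ^ C) * (ℓ ^ C) * (ℓ ^ C) ^ (2 * g) := by ring
    rw [h5] at h3
    have h6 : 0 < (ℓ ^ C) ^ (2 * g) := by positivity
    have h7 := Nat.le_of_mul_le_mul_right h3 h6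
    nlinarith
  have h2 : g ≤ g' := by
    have h3 := hlow 1
    rw [hcard _ (hne 1), pow_one] at h3
    have h4 := (Nat.pow_le_pow_iff_right (by omega : 1 < ℓ)).1 h3
    omega
  omega

/-- **Node E1b of S15101.** -/
theorem genus_eq (k : Type u) [Field k] [IsAlgClosed k] [CharZero k] {X E : Scheme.{u}} [X.Over (Spec (CommRingCat.of k))]
    [IsProper (X ↘ Spec (CommRingCat.of k))] [Smooth (X ↘ Spec (CommRingCat.of k))] [IsIntegral X]
    (D : PZ k X) {g : ℕ} (hg : topologicalKrullDim D.A.left = g) [E.Over (Spec (CommRingCat.of k))]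
    (hE : Curve.IsSmoothProperCurve k E (E ↘ Spec (CommRingCat.of k))) (θ : X ⟶ E)
    (hθ : θ ≫ (E ↘ Spec (CommRingCat.of k)) = X ↘ Spec (CommRingCat.of k)) (happ : ∀ U, IsIso (θ.app U))
    (halg : ∀ c ∈ alg0 k X, ∃ d : Pic E, pull θ d = c) : Curv2.genus k E = g :=
  finrank_eq D hg θ hE happ halg

end Groth.Agent.Surf.K947.GenusPic
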