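import Groth.Agent.Surf.K464.Curves
import Groth.Agent.Divis.CartierStalk
import Groth.Agent.VarietyA.SmoothReg
import Groth.Agent.CalgA.RegBasic

/-!
# A curve on a smooth surface without point of multiplicity two is smooth
-/

set_option autoImplicit false
set_option linter.unusedSectionVars false
universe u
open CategoryTheory CategoryTheory.Limits AlgebraicGeometry Opposite TopologicalSpace IsLocalRing

namespace Groth.Agent.Surf.K947.SmoothCrv

open Groth.Agent Groth.Agent.Grpsch.PicGrp K464.Base K464.Curves Groth.Agent.Divis.CartierBasic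

/-- Local form: `C` effective Cartier, `O_{X,p}` regular, `I_{C,p} ⊄ 𝔪²`: the local ring of `C` at `p` is regular. -/
theorem isRegularLocalRing_stalk {X : Scheme.{u}} {C : X.IdealSheafData} (hE : BlowUp.IsEffCartierIdeal C)
    (d : C.subscheme) (hreg : IsRegularLocalRing (X.presheaf.stalk (C.subschemeι d)))
    (h : ¬ stalkIdeal C (C.subschemeι d) ≤ maximalIdeal (X.presheaf.stalk (C.subschemeι d)) ^ 2) :
    IsRegularLocalRing (C.subscheme.presheaf.stalk d) := by
  obtain ⟨g, hg, hgs⟩ := exists_stalkIdeal_eq_span hE (C.subschemeι d)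
  have hsurj : Function.Surjective (C.subschemeι.stalkMap d).hom := C.subschemeι.stalkMap_surjective d
  have hker := Divis.CartierStalk.ker_stalkMap_subschemeι C d
  have hgm : g ∈ maximalIdeal (X.presheaf.stalk (C.subschemeι d)) := by
    have h1 : g ∈ RingHom.ker (C.subschemeι.stalkMap d).hom := by
      rw [hker, hgs]
      exact Ideal.mem_span_singleton_self g
    have h2 : (maximalIdeal (C.subscheme.presheaf.stalk d)).comap (C.subschemeι.stalkMap d).hom =
        maximalIdeal (X.presheaf.stalk (C.subschemeι d)) :=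
      ((IsLocalRing.local_hom_TFAE (C.subschemeι.stalkMap d).hom).out 0 4).mp
        (inferInstance : IsLocalHom (C.subschemeι.stalkMap d).hom)
    rw [← h2, Ideal.mem_comap, RingHom.mem_ker.1 h1]
    exact zero_mem _
  have hg2 : g ∉ maximalIdeal (X.presheaf.stalk (C.subschemeι d)) ^ 2 := by
    intro hmem
    apply h
    rw [hgs, Ideal.span_singleton_le_iff_mem]
    exact hmem
  obtain ⟨h1, -⟩ := CalgA.RegBasic.quotient_of_notMem_sq g hgm hg2
  have hk : RingHom.ker (C.subschemeι.stalkMap d).hom = Ideal.span {g} := by rw [hker, hgs]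
  exact IsRegularLocalRing.of_ringEquiv
    ((Ideal.quotEquivOfEq hk.symm).trans (RingHom.quotientKerEquivOfSurjective hsurj))

/-- **Node SMO of S15911.** -/
theorem smooth_of_not_le_sq (k : Type u) [Field k] [IsAlgClosed k] {X : Scheme.{u}}
    [X.Over (Spec (CommRingCat.of k))] [IsIntegral X] [IsProper (X ↘ Spec (CommRingCat.of k))]
    [Smooth (X ↘ Spec (CommRingCat.of k))] (hdim : topologicalKrullDim X = 2) {C : X.IdealSheafData}
    (hC : IsCurve C) (h : ∀ p ∈ C.support, IsClosed ({p} : Set X) →
      ¬ stalkIdeal C p ≤ maximalIdeal (X.presheaf.stalk p) ^ 2) :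
    letI := overC k X C
    Smooth (C.subscheme ↘ Spec (CommRingCat.of k)) := by
  letI := overC k X C
  have hp := isProper_sub k X C
  have hlfp : LocallyOfFinitePresentation (C.subscheme ↘ Spec (CommRingCat.of k)) :=
    LocallyOfFinitePresentation.iff_locallyOfFiniteType.2 inferInstance
  have hJ : JacobsonSpace C.subscheme := LocallyOfFiniteType.jacobsonSpace (C.subscheme ↘ Spec (CommRingCat.of k))
  refine Scheme.Hom.smoothLocus_eq_top_iff.1 ?_
  by_contra hne
  have h1 : (((C.subscheme ↘ Spec (CommRingCat.of k)).smoothLocus : Set C.subscheme)ᶜ).Nonempty := by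
    rw [Set.nonempty_compl]
    intro h2
    exact hne (TopologicalSpace.Opens.ext h2)
  obtain ⟨d, hd, hdc⟩ := nonempty_inter_closedPoints h1
    ((C.subscheme ↘ Spec (CommRingCat.of k)).smoothLocus.isOpen.isClosed_compl.isLocallyClosed)
  apply hd
  rw [SetLike.mem_coe, VarietyA.SmoothReg.mem_smoothLocus_iff_of_perfectField]
  have hpc : IsClosed ({C.subschemeι d} : Set X) := by
    rw [← Set.image_singleton]
    exact C.subschemeι.isClosedEmbedding.isClosedMap _ hdc
  have hps : C.subschemeι d ∈ C.support := by
    have : C.subschemeι d ∈ Set.range C.subschemeι := ⟨d, rfl⟩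
    rw [Scheme.IdealSheafData.range_subschemeι] at this
    exact this
  exact isRegularLocalRing_stalk (isEff_of_smooth k hdim hC) d (S1535.result k X _) (h _ hps hpc)

end Groth.Agent.Surf.K947.SmoothCrv
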